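import Cfsg.Agent.H756.PU.Stmts

/-!
# Generic lemmas on `hull`, `Inv` and the field (copied from `H839/PU/StepOne` of helper839)
-/

set_option autoImplicit false
set_option linter.unusedVariables false

namespace Cfsg.Agent.H55.P4.Gen

open Cfsg Cfsg.FusionSystem Cfsg.Agent.H756.PU

universe u

section gen

variable {Ω : Type*} [Group Ω] {E : Subgroup Ω} {Γ : Subgroup (MulAut E)}

/-- `hull` as a subgroup of `E` -/
def hullIn (Γ : Subgroup (MulAut E)) (X : Subgroup Ω) : Subgroup E :=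
  Subgroup.closure {y : E | ∃ γ ∈ Γ, ∃ e : E, (e : Ω) ∈ X ∧ y = γ e}

theorem hull_eq_map (Γ : Subgroup (MulAut E)) (X : Subgroup Ω) :
    hull Γ X = (hullIn Γ X).map E.subtype := by
  rw [hullIn, MonoidHom.map_closure, hull]
  congr 1
  ext y
  constructor
  · rintro ⟨γ, hγ, e, he, rfl⟩
    exact ⟨γ e, ⟨γ, hγ, e, he, rfl⟩, rfl⟩
  · rintro ⟨_, ⟨γ, hγ, e, he, rfl⟩, rfl⟩
    exact ⟨γ, hγ, e, he, rfl⟩

/-- the hull is invariant -/
theorem inv_hull (Γ : Subgroup (MulAut E)) (X : Subgroup Ω) : Inv Γ (hull Γ X) := by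
  rw [hull_eq_map]
  refine ⟨by rintro _ ⟨x, -, rfl⟩; exact x.2, fun γ hγ e he => ?_⟩
  obtain ⟨x, hx, hxe⟩ := he
  have hxe' : x = e := Subtype.ext hxe
  subst hxe'
  refine ⟨γ x, ?_, rfl⟩
  have h : (hullIn Γ X).map γ.toMonoidHom ≤ hullIn Γ X := by
    rw [hullIn, MonoidHom.map_closure, Subgroup.closure_le]
    rintro _ ⟨_, ⟨δ, hδ, e, he, rfl⟩, rfl⟩
    exact Subgroup.subset_closure ⟨γ * δ, Γ.mul_mem hγ hδ, e, he, rfl⟩
  exact h ⟨x, hx, rfl⟩

theorem le_hull {X : Subgroup Ω} (hX : X ≤ E) : X ≤ hull Γ X := fun x hx =>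
  Subgroup.subset_closure ⟨1, Γ.one_mem, ⟨x, hX hx⟩, hx, rfl⟩

/-- the hull of a central subgroup of exponent `p` is central of exponent `p` -/
theorem hull_central {X : Subgroup Ω} (hX : ∀ x ∈ X, ∀ e ∈ E, x * e = e * x) {p : ℕ}
    (hp : ∀ x ∈ X, x ^ p = 1) :
    ∀ m ∈ hull Γ X, m ∈ E ∧ (∀ e ∈ E, m * e = e * m) ∧ m ^ p = 1 := by
  intro m hm
  induction hm using Subgroup.closure_induction with
  | mem y hy =>
    obtain ⟨γ, hγ, e, he, rfl⟩ := hy
    refine ⟨(γ e).2, fun f hf => ?_, ?_⟩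
    · have h1 : (⟨f, hf⟩ : E) = γ (γ⁻¹ ⟨f, hf⟩) := by rw [MulAut.apply_inv_self]
      have h2 : e * γ⁻¹ ⟨f, hf⟩ = γ⁻¹ ⟨f, hf⟩ * e := Subtype.ext (hX e he _ (γ⁻¹ ⟨f, hf⟩).2)
      have h3 : γ e * (⟨f, hf⟩ : E) = ⟨f, hf⟩ * γ e := by
        rw [h1, ← map_mul, h2, map_mul]
      exact congrArg Subtype.val h3
    · have h1 : e ^ p = 1 := Subtype.ext (hp e he)
      have h2 : (γ e) ^ p = 1 := by rw [← map_pow, h1, map_one]
      exact congrArg Subtype.val h2
  | one => exact ⟨E.one_mem, fun e _ => by rw [one_mul, mul_one], one_pow p⟩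
  | mul x y _ _ hx hy =>
    refine ⟨E.mul_mem hx.1 hy.1, fun e he => ?_, ?_⟩
    · rw [mul_assoc, hy.2.1 e he, ← mul_assoc, hx.2.1 e he, mul_assoc]
    · have hc : Commute x y := hx.2.1 y hy.1
      rw [hc.mul_pow, hx.2.2, hy.2.2, one_mul]
  | inv x _ hx =>
    refine ⟨E.inv_mem hx.1, fun e he => ?_, ?_⟩
    · have hc : Commute x e := hx.2.1 e he
      exact hc.inv_left
    · rw [inv_pow, hx.2.2, inv_one]

/-- the commutator subgroup is invariant -/
theorem inv_commutator (Γ : Subgroup (MulAut E)) : Inv Γ ⁅E, E⁆ := by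
  rw [← Subgroup.map_subtype_commutator]
  refine ⟨by rintro _ ⟨x, -, rfl⟩; exact x.2, fun γ hγ e he => ?_⟩
  obtain ⟨x, hx, hxe⟩ := he
  have hxe' : x = e := Subtype.ext hxe
  subst hxe'
  refine ⟨γ x, ?_, rfl⟩
  have h : (commutator E).map γ.toMonoidHom ≤ commutator E := by
    rw [commutator_def, Subgroup.map_commutator]
    exact Subgroup.commutator_mono le_top le_top
  exact h ⟨x, hx, rfl⟩

theorem inv_bot' (Γ : Subgroup (MulAut E)) : Inv Γ (⊥ : Subgroup Ω) :=
  ⟨bot_le, fun γ _ e he => by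
    have h1 : e = 1 := Subtype.ext (Subgroup.mem_bot.1 he)
    rw [h1, map_one]
    exact (⊥ : Subgroup Ω).one_mem⟩

theorem inv_inf {M N : Subgroup Ω} (hM : Inv Γ M) (hN : Inv Γ N) : Inv Γ (M ⊓ N) :=
  ⟨inf_le_left.trans hM.1, fun γ hγ e he => ⟨hM.2 γ hγ e he.1, hN.2 γ hγ e he.2⟩⟩

end gen

/-! ### The field -/

section field

variable {K : Type u} [Field K] [StarRing K] {p n : ℕ}

theorem two_le_q (h : HypK K p n) : 2 ≤ p ^ n :=
  h.pp.two_le.trans (Nat.le_self_pow (by have := h.hn; omega) p)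

omit [StarRing K] in
theorem card_roots_le {P : Polynomial K} (hP : P ≠ 0) {m : ℕ} (hd : P.natDegree ≤ m) (s : Set K)
    (hs : ∀ x ∈ s, P.eval x = 0) : Nat.card s ≤ m := by
  classical
  have h1 : s ⊆ (P.roots.toFinset : Set K) := fun x hx => by
    rw [Finset.mem_coe, Multiset.mem_toFinset, Polynomial.mem_roots hP]
    exact hs x hx
  have h2 : Nat.card s ≤ P.roots.toFinset.card := by
    rw [Nat.card_coe_set_eq, ← Set.ncard_coe_finset]
    exact Set.ncard_le_ncard h1 (Finset.finite_toSet _)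
  exact h2.trans ((Multiset.toFinset_card_le _).trans ((Polynomial.card_roots' P).trans hd))

/-- the fixed field has at most `q` elements -/
theorem card_fix_le (h : HypK K p n) : Nat.card {x : K | star x = x} ≤ p ^ n := by
  have hq := two_le_q h
  refine card_roots_le (P := Polynomial.X ^ (p ^ n) - Polynomial.X) ?_ ?_ _ ?_
  · exact FiniteField.X_pow_card_sub_X_ne_zero K (by omega)
  · rw [FiniteField.X_pow_card_sub_X_natDegree_eq K (by omega)]
  · intro x hx
    have hx' : star x = x := hx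
    rw [h.star_eq] at hx'
    simp [hx']

/-- the skew elements -/
theorem card_skew_le (h : HypK K p n) : Nat.card {x : K | x + star x = 0} ≤ p ^ n := by
  have := h.fin
  by_cases hε : ∃ ε : K, ε ≠ 0 ∧ ε + star ε = 0
  · obtain ⟨ε, hε0, hε⟩ := hε
    refine le_trans ?_ (card_fix_le h)
    have hs : star ε = -ε := by linear_combination hε
    refine Nat.card_le_card_of_injective
      (fun x : {x : K | x + star x = 0} => (⟨x.1 * ε⁻¹, ?_⟩ : {x : K | star x = x})) ?_
    · have hx : (x : K) + star (x : K) = 0 := x.2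
      have hx' : star (x : K) = -x := by linear_combination hx
      show star ((x : K) * ε⁻¹) = (x : K) * ε⁻¹
      rw [star_mul', star_inv₀, hs, hx']
      field_simp
    · intro x y hxy
      have h1 : (x : K) * ε⁻¹ = y * ε⁻¹ := congrArg Subtype.val hxy
      exact Subtype.ext (mul_right_cancel₀ (inv_ne_zero hε0) h1)
  · push Not at hε
    have h1 : Nat.card {x : K | x + star x = 0} ≤ 1 := by
      have : Subsingleton {x : K | x + star x = 0} := ⟨fun x y => by
        have hx : (x : K) = 0 := by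
          by_contra h0
          exact hε x h0 x.2
        have hy : (y : K) = 0 := by
          by_contra h0
          exact hε y h0 y.2
        exact Subtype.ext (hx.trans hy.symm)⟩
      exact Finite.card_le_one_iff_subsingleton.2 this
    exact h1.trans (by have := two_le_q h; omega)

/-- the line `F_q r` -/
theorem card_line_le (h : HypK K p n) {r : K} (hr : r ≠ 0) :
    Nat.card {x : K | star x * r = x * star r} ≤ p ^ n := by
  have := h.fin
  refine le_trans ?_ (card_fix_le h)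
  have hsr : star r ≠ 0 := star_ne_zero.2 hr
  refine Nat.card_le_card_of_injective
    (fun x : {x : K | star x * r = x * star r} => (⟨x.1 * r⁻¹, ?_⟩ : {x : K | star x = x})) ?_
  · have hx : star (x : K) * r = x * star r := x.2
    show star ((x : K) * r⁻¹) = (x : K) * r⁻¹
    rw [star_mul', star_inv₀]
    field_simp
    linear_combination hx
  · intro x y hxy
    have h1 : (x : K) * r⁻¹ = y * r⁻¹ := congrArg Subtype.val hxy
    exact Subtype.ext (mul_right_cancel₀ (inv_ne_zero hr) h1)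

theorem exists_star_ne (h : HypK K p n) : ∃ θ : K, star θ ≠ θ := by
  have := h.fin
  by_contra hcon
  push Not at hcon
  have h1 := card_fix_le h
  have h2 : {x : K | star x = x} = Set.univ := Set.eq_univ_of_forall hcon
  rw [h2, Nat.card_congr (Equiv.Set.univ K), h.card] at h1
  have h3 := two_le_q h
  nlinarith

end field

end Cfsg.Agent.H55.P4.Gen
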