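import Cfsg.Agent.H776.P4.Stmts
import Cfsg.Agent.H55.P4.Gen

/-!
# S5210, (E1): an essential subgroup of `PG K` contains `Y` (helper55)

Plan: `outputs/live/tools/plans/S5210.md`, 1, E1; model: `H839/PU/StepOne`.
-/

set_option autoImplicit false
set_option linter.unusedVariables false

namespace Cfsg.Agent.H55.P4

open Cfsg Cfsg.FusionSystem
open Cfsg.Agent.H756.PU (HypK Ess Inv Com NormAut TIAut AF hull cmod comG StChain StFF)
open Cfsg.Agent.H776.P4
open Cfsg.Agent.H55.P4.Gen

universe u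

section coord

variable {K : Type u} [Field K] [StarRing K]

theorem PZ_le_PY : PZ K ≤ PY K := fun g hg => ⟨hg.1, hg.2.2⟩

theorem PZ_central {z : PG K} (hz : z ∈ PZ K) (g : PG K) : z * g = g * z := by
  obtain ⟨h1, h2, h3⟩ := hz
  ext <;> simp [PG.mul_a, PG.mul_b, h1, h2, h3, add_comm]

/-- commutators in `S/Z` -/
theorem com_b (e y : PG K) : (e * y * e⁻¹ * y⁻¹) ∈ PY K ∧ (e * y * e⁻¹ * y⁻¹).b = e.r * y.c - y.r * e.c := by
  refine ⟨⟨?_, ?_⟩, ?_⟩
  · simp
  · simp
  · simp only [PG.mul_b, PG.inv_b, PG.mul_r, PG.inv_r, PG.inv_c]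
    ring

/-- `[Y, S] ≤ Z` -/
theorem com_PY {y : PG K} (hy : y ∈ PY K) (g : PG K) : y * g * y⁻¹ * g⁻¹ ∈ PZ K := by
  obtain ⟨h1, h2⟩ := com_b y g
  refine ⟨h1.1, ?_, h1.2⟩
  rw [h2, hy.1, hy.2]
  ring

theorem comm_PY_iff {y : PG K} (hy : y ∈ PY K) (g : PG K) :
    y * g = g * y ↔ g.r * star y.b + star g.r * y.b = 0 := by
  obtain ⟨h1, h2⟩ := hy
  constructor
  · intro h
    have h6 := congrArg PG.a h
    simp only [PG.mul_a, h1, h2, star_zero] at h6
    linear_combination -h6
  · intro h
    ext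
    · simp [h1, add_comm]
    · simp only [PG.mul_a, h1, h2, star_zero]
      linear_combination -h
    · simp only [PG.mul_b, h1, h2]
      ring
    · simp [h2]

/-- the coordinate `r` as a homomorphism -/
def rh : PG K →* Multiplicative K where
  toFun g := Multiplicative.ofAdd g.r
  map_one' := rfl
  map_mul' _ _ := rfl

/-- the coordinate `b` on `Y` as a homomorphism -/
def bh : PY K →* Multiplicative K where
  toFun g := Multiplicative.ofAdd (g : PG K).b
  map_one' := rfl
  map_mul' x y := by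
    have h1 : ((x * y : PY K) : PG K).b = (x : PG K).b + (y : PG K).b := by
      show ((x : PG K) * (y : PG K)).b = _
      rw [PG.mul_b, x.2.1, zero_mul, add_zero]
    show Multiplicative.ofAdd _ = _
    rw [h1, ofAdd_add]

theorem bh_surjective : Function.Surjective (bh (K := K)) := by
  intro b
  refine ⟨⟨{ r := 0, a := 0, b := b.toAdd, c := 0, ha := by simp, hc := by simp }, ?_⟩, rfl⟩
  exact ⟨rfl, rfl⟩

/-- the orthogonal of `r`, as a subgroup -/
def perp (r : K) : Subgroup (Multiplicative K) where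
  carrier := {x | r * star (x.toAdd) + star r * x.toAdd = 0}
  one_mem' := by simp
  mul_mem' := by
    intro x y hx hy
    have hx' : r * star (x.toAdd) + star r * x.toAdd = 0 := hx
    have hy' : r * star (y.toAdd) + star r * y.toAdd = 0 := hy
    show r * star ((x * y).toAdd) + star r * (x * y).toAdd = 0
    rw [toAdd_mul, star_add]
    linear_combination hx' + hy'
  inv_mem' := by
    intro x hx
    have hx' : r * star (x.toAdd) + star r * x.toAdd = 0 := hx
    show r * star ((x⁻¹).toAdd) + star r * (x⁻¹).toAdd = 0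
    rw [toAdd_inv, star_neg]
    linear_combination -hx'

/-- the line `F_q r`, as a subgroup -/
def line (r : K) : Subgroup (Multiplicative K) where
  carrier := {x | star (x.toAdd) * r = x.toAdd * star r}
  one_mem' := by simp
  mul_mem' := by
    intro x y hx hy
    have hx' : star (x.toAdd) * r = x.toAdd * star r := hx
    have hy' : star (y.toAdd) * r = y.toAdd * star r := hy
    show star ((x * y).toAdd) * r = (x * y).toAdd * star r
    rw [toAdd_mul, star_add]
    linear_combination hx' + hy'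
  inv_mem' := by
    intro x hx
    have hx' : star (x.toAdd) * r = x.toAdd * star r := hx
    show star ((x⁻¹).toAdd) * r = (x⁻¹).toAdd * star r
    rw [toAdd_inv, star_neg]
    linear_combination -hx'

instance PY_normal : (PY K).Normal := ⟨fun y hy g => by
  have h1 := com_PY hy g
  have h2 : g * y * g⁻¹ = (y * g * y⁻¹ * g⁻¹)⁻¹ * y := by group
  rw [h2]
  exact (PY K).mul_mem ((PY K).inv_mem (PZ_le_PY h1)) hy⟩

end coord

section main

variable {K : Type u} [Field K] [StarRing K] {p n : ℕ}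

theorem finite_PG (h : HypK K p n) : Finite (PG K) := by
  have := h.fin
  refine Finite.of_injective (fun g : PG K => (g.r, g.a, g.b, g.c)) ?_
  intro x y hxy
  simp only [Prod.mk.injEq] at hxy
  obtain ⟨h1, h2, h3, h4⟩ := hxy
  exact PG.ext h1 h2 h3 h4

theorem card_perp_le (h : HypK K p n) {r : K} (hr : r ≠ 0) : Nat.card (perp r) ≤ p ^ n := by
  have := h.fin
  refine le_trans ?_ (card_skew_le h)
  have hsr : star r ≠ 0 := star_ne_zero.2 hr
  refine Nat.card_le_card_of_injective
    (fun x : perp r => (⟨x.1.toAdd * star r, ?_⟩ : {x : K | x + star x = 0})) ?_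
  · have hx : r * star (x.1.toAdd) + star r * x.1.toAdd = 0 := x.2
    show x.1.toAdd * star r + star (x.1.toAdd * star r) = 0
    rw [star_mul', star_star]
    linear_combination hx
  · intro x y hxy
    have h1 : x.1.toAdd * star r = y.1.toAdd * star r := congrArg Subtype.val hxy
    exact Subtype.ext (Multiplicative.toAdd.injective (mul_right_cancel₀ hsr h1))

theorem card_PZ_le (h : HypK K p n) : Nat.card (PZ K) ≤ p ^ n := by
  have := h.fin
  refine le_trans ?_ (card_fix_le h)
  refine Nat.card_le_card_of_injective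
    (fun g : PZ K => (⟨(g : PG K).a, (g : PG K).ha⟩ : {x : K | star x = x})) ?_
  intro x y hxy
  have h1 : (x : PG K).a = (y : PG K).a := congrArg Subtype.val hxy
  refine Subtype.ext (PG.ext ?_ h1 ?_ ?_)
  · rw [x.2.1, y.2.1]
  · rw [x.2.2.1, y.2.2.1]
  · rw [x.2.2.2, y.2.2.2]

theorem pow_PZ (h : HypK K p n) {z : PG K} (hz : z ∈ PZ K) : z ^ p = 1 := by
  have := h.char
  have key : ∀ m : ℕ, z ^ m ∈ PZ K ∧ (z ^ m).a = (m : K) * z.a := by
    intro m
    refine ⟨(PZ K).pow_mem hz m, ?_⟩
    induction m with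
    | zero => simp
    | succ m ih =>
      have h1 := (PZ K).pow_mem hz m
      rw [pow_succ, PG.mul_a, ih, h1.1]
      push_cast
      simp
      ring
  obtain ⟨h1, h2⟩ := key p
  rw [CharP.cast_eq_zero, zero_mul] at h2
  exact PG.ext h1.1 h2 h1.2.1 h1.2.2

/-- a nonzero skew element -/
theorem exists_skew (h : HypK K p n) : ∃ κ : K, κ ≠ 0 ∧ star κ = -κ := by
  obtain ⟨θ, hθ⟩ := exists_star_ne h
  refine ⟨θ - star θ, sub_ne_zero.2 (Ne.symm hθ), ?_⟩
  rw [star_sub, star_star, neg_sub]

/-- **(E1)** -/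
theorem stE1 (hCh : StChain.{u}) (hFF : StFF.{u}) : StE1.{u} := by
  intro K _ _ p n h E Γ hE
  by_contra hZ2
  have hfin := finite_PG h
  have hKfin := h.fin
  have hq := two_le_q h
  have hqpos : 0 < p ^ n := by omega
  -- the centre
  have hZE : PZ K ≤ E := fun z hz => hE.cent z (Subgroup.mem_top z) fun e _ => PZ_central hz e
  set M := hull Γ (PZ K) with hM
  have hMc : ∀ m ∈ M, m ∈ E ∧ (∀ e ∈ E, m * e = e * m) ∧ m ^ p = 1 :=
    hull_central (fun x hx e _ => PZ_central hx e) (fun x hx => pow_PZ h hx)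
  have hMinv : Inv Γ M := inv_hull Γ (PZ K)
  have hZM : PZ K ≤ M := le_hull hZE
  have hcomE : ∀ X : Subgroup (PG K), X ≤ PY K → Com X E M := fun X hX a ha m _ => hZM (com_PY (hX ha) m)
  -- `C_Y(M) ≤ E`
  let X : Subgroup (PG K) := PY K ⊓ Subgroup.centralizer (M : Set (PG K))
  have hXM : ∀ x ∈ X, ∀ m ∈ M, x * m = m * x := fun x hx m hm =>
    ((Subgroup.mem_centralizer_iff.1 hx.2) m hm).symm
  have hXcom : Com X M M := fun x hx m hm => by
    rw [hXM x hx m hm, mul_assoc, mul_assoc, mul_inv_cancel_left, mul_inv_cancel]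
    exact M.one_mem
  have hXE : X ≤ E := hCh hE M M M hMinv hMinv hMinv le_rfl le_rfl X le_top (hcomE X inf_le_left) hXcom hXcom hXM
  -- an element of `M` outside `V`
  obtain ⟨z, hzM, hzr⟩ : ∃ z ∈ M, z.r ≠ 0 := by
    by_contra hcon
    push Not at hcon
    apply hZ2
    have h1 : PY K ≤ X := fun y hy => ⟨hy, Subgroup.mem_centralizer_iff.2 fun m hm => by
      rw [(comm_PY_iff hy m).2 (by rw [hcon m hm, star_zero, zero_mul, zero_mul, add_zero])]⟩
    exact h1.trans hXE
  have hszr : star z.r ≠ 0 := star_ne_zero.2 hzr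
  have hz := hMc z hzM
  -- `FF`
  have hA : PY K ≤ normalizerIn (⊤ : Subgroup (PG K)) E := by
    intro y hy
    refine ⟨Subgroup.mem_top y, ?_⟩
    refine Subgroup.mem_normalizer_fintype (fun e he => ?_)
    have h1 : y * e * y⁻¹ = (y * e * y⁻¹ * e⁻¹) * e := by group
    rw [h1]
    exact E.mul_mem (hZE (com_PY hy e)) he
  have hYp : ∀ x ∈ PY K, ∀ y ∈ PY K, x * y * x⁻¹ * y⁻¹ ∈ E := fun x hx y hy => hZE (com_PY hx y)
  have hFF' := fun hle => hFF hE ⊥ M (PZ K) (PY K) (inv_bot' Γ) hMinv bot_le hZM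
    (fun e he m hm => by
      rw [← (hMc m hm).2.1 e he, mul_assoc, mul_assoc, mul_inv_cancel_left, mul_inv_cancel]
      exact (⊥ : Subgroup (PG K)).one_mem)
    (fun m hm => Subgroup.mem_bot.2 (hMc m hm).2.2) (by rw [sup_bot_eq])
    (fun g _ m hm => by
      rw [← PZ_central hm g, mul_assoc, mul_assoc, mul_inv_cancel_left, mul_inv_cancel]
      exact (⊥ : Subgroup (PG K)).one_mem)
    hA hZ2 (fun x hx y hy => hYp x hx y hy) (fun x hx => by
      -- `Y` has exponent `p`
      have hch := h.char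
      have key : ∀ m : ℕ, x ^ m ∈ PY K ∧ (x ^ m).a = (m : K) * x.a ∧ (x ^ m).b = (m : K) * x.b := by
        intro m
        refine ⟨(PY K).pow_mem hx m, ?_⟩
        induction m with
        | zero => simp
        | succ m ih =>
          have h1 := (PY K).pow_mem hx m
          rw [pow_succ, PG.mul_a, PG.mul_b, ih.1, ih.2, h1.1]
          push_cast
          simp
          constructor <;> ring
      obtain ⟨h1, h2, h3⟩ := key p
      rw [CharP.cast_eq_zero, zero_mul] at h2 h3
      have h4 : x ^ p = 1 := PG.ext h1.1 h2 h3 h1.2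
      rw [h4]
      exact E.one_mem) (hcomE _ le_rfl) (fun x _ m hm => by
      rw [Subgroup.mem_bot.1 hm, mul_one, one_mul]) hle
  -- `|R| ≤ |Y : Y ∩ E|`
  have hR : (cmod (PY K) M ⊥).relIndex M ≤ Nat.card ((rh (K := K)).comp M.subtype).range := by
    have h1 : M ⊓ PV K ≤ cmod (PY K) M ⊥ := fun m hm => Subgroup.subset_closure ⟨hm.1, fun a ha => by
      have h2 : m.r = 0 := hm.2
      rw [(comm_PY_iff ha m).2 (by rw [h2, star_zero, zero_mul, zero_mul, add_zero]), mul_assoc, mul_assoc,
        mul_inv_cancel_left, mul_inv_cancel]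
      exact (⊥ : Subgroup (PG K)).one_mem⟩
    have h2 : ((rh (K := K)).comp M.subtype).ker = (M ⊓ PV K).subgroupOf M := by
      ext m
      rw [MonoidHom.mem_ker, Subgroup.mem_subgroupOf]
      constructor
      · intro h3
        exact ⟨m.2, Multiplicative.ofAdd.injective h3⟩
      · intro h3
        exact congrArg Multiplicative.ofAdd h3.2
    rw [← Subgroup.index_ker, h2]
    exact Nat.le_of_dvd (Nat.pos_of_ne_zero Subgroup.index_ne_zero_of_finite)
      (Subgroup.relIndex_dvd_of_le_left M h1)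
  have hB : ∀ B : Subgroup (Multiplicative K), (∀ y ∈ PY K, y ∈ E → Multiplicative.ofAdd y.b ∈ B) →
      B.index ≤ E.relIndex (PY K) := by
    intro B hB
    rw [← Subgroup.index_comap_of_surjective B (bh_surjective (K := K))]
    refine Nat.le_of_dvd (Nat.pos_of_ne_zero Subgroup.index_ne_zero_of_finite)
      (Subgroup.index_dvd_of_le fun y hy => ?_)
    exact hB y y.2 (Subgroup.mem_subgroupOf.1 hy)
  have hCZ : comG (PY K) M ⊔ ⊥ ≤ PZ K := by
    rw [sup_bot_eq]
    refine (Subgroup.closure_le _).2 ?_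
    rintro _ ⟨a, ha, m, hm, rfl⟩
    exact com_PY ha m
  have hCcard : Nat.card (comG (PY K) M ⊔ ⊥ : Subgroup (PG K)) ≤ Nat.card (PZ K) :=
    Subgroup.card_le_of_le hCZ
  have hindex : ∀ B : Subgroup (Multiplicative K), B.index * Nat.card B = (p ^ n) ^ 2 := by
    intro B
    rw [mul_comm, B.card_mul_index, ← h.card]
    rfl
  -- case distinction
  by_cases hcase : ∀ m ∈ M, star m.r * z.r = m.r * star z.r
  swap
  · push Not at hcase
    obtain ⟨m, hmM, hm⟩ := hcase
    exfalso
    have h1 : (⊥ : Subgroup (Multiplicative K)).index ≤ E.relIndex (PY K) := by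
      refine hB ⊥ fun y hy hyE => ?_
      have k1 := (comm_PY_iff hy z).1 (hz.2.1 y hyE).symm
      have k2 := (comm_PY_iff hy m).1 ((hMc m hmM).2.1 y hyE).symm
      rw [Subgroup.mem_bot]
      have hb : y.b = 0 := by
        by_contra hb0
        apply hm
        apply mul_right_cancel₀ hb0
        linear_combination z.r * k2 - m.r * k1
      rw [hb]
      rfl
    have h2 := hindex ⊥
    rw [Subgroup.card_bot, mul_one] at h2
    rw [h2] at h1
    have h3 : Nat.card ((rh (K := K)).comp M.subtype).range ≤ (p ^ n) ^ 2 := by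
      rw [← h.card]
      exact Nat.card_le_card_of_injective (fun x => Multiplicative.toAdd x.1)
        fun x y hxy => Subtype.ext (Multiplicative.toAdd.injective hxy)
    obtain ⟨-, -, h4⟩ := hFF' (hR.trans (h3.trans h1))
    have h5 := h4 ⊥ (inv_bot' Γ) le_rfl bot_le (fun a _ m hm => by
      rw [Subgroup.mem_bot.1 hm, mul_one, mul_inv_cancel, one_mul, inv_one]
      exact (⊥ : Subgroup (PG K)).one_mem)
    rw [Subgroup.relIndex_bot_left] at h5
    have h6 := (h1.trans h5).trans (hCcard.trans (card_PZ_le h))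
    nlinarith
  -- `M` maps into a line
  have hline : ∀ y ∈ PY K, z.r * star y.b + star z.r * y.b = 0 → y ∈ E := by
    intro y hy hb
    refine hXE ⟨hy, Subgroup.mem_centralizer_iff.2 fun m hm => ?_⟩
    rw [(comm_PY_iff hy m).2]
    have h1 := hcase m hm
    apply mul_right_cancel₀ hzr
    linear_combination y.b * h1 + m.r * hb
  have hcardperp : Nat.card (perp z.r) ≤ p ^ n := card_perp_le h hzr
  have hcardline : Nat.card (line z.r) ≤ p ^ n := card_line_le h hzr
  have h1 : (perp z.r).index ≤ E.relIndex (PY K) := by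
    refine hB _ fun y hy hyE => ?_
    exact (comm_PY_iff hy z).1 (hz.2.1 y hyE).symm
  have h2 := hindex (perp z.r)
  have h3 : p ^ n ≤ (perp z.r).index := by
    by_contra hlt
    push Not at hlt
    have : (perp z.r).index * Nat.card (perp z.r) < (p ^ n) ^ 2 := by
      calc (perp z.r).index * Nat.card (perp z.r) ≤ (perp z.r).index * p ^ n :=
            Nat.mul_le_mul_left _ hcardperp
        _ < p ^ n * p ^ n := Nat.mul_lt_mul_of_pos_right hlt hqpos
        _ = (p ^ n) ^ 2 := by ring
    omega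
  have h4 : Nat.card ((rh (K := K)).comp M.subtype).range ≤ p ^ n := by
    refine le_trans (Subgroup.card_le_of_le ?_) hcardline
    rintro _ ⟨m, rfl⟩
    exact hcase m m.2
  obtain ⟨hN, -, h5⟩ := hFF' (hR.trans (h4.trans (h3.trans h1)))
  -- commutators in the centre are trivial
  let D : Subgroup (PG K) := M ⊓ ⁅E, E⁆
  have hDr : ∀ x ∈ ⁅E, E⁆, x.r = 0 := by
    have h6 : ⁅E, E⁆ ≤ PV K := by
      rw [Subgroup.commutator_le]
      intro x _ y _
      show (x * y * x⁻¹ * y⁻¹).r = 0
      simp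
    exact fun x hx => h6 hx
  have h6 := h5 D (inv_inf hMinv (inv_commutator Γ)) bot_le inf_le_left (fun a ha m hm => by
    rw [(comm_PY_iff ha m).2 (by rw [hDr m hm.2, star_zero, zero_mul, zero_mul, add_zero]), mul_assoc, mul_assoc,
      mul_inv_cancel_left, mul_inv_cancel]
    exact (⊥ : Subgroup (PG K)).one_mem)
  have h7 : Nat.card (D ⊓ (comG (PY K) M ⊔ ⊥) : Subgroup (PG K)) * D.relIndex (comG (PY K) M ⊔ ⊥) =
      Nat.card (comG (PY K) M ⊔ ⊥ : Subgroup (PG K)) := by
    rw [← Subgroup.inf_relIndex_right D (comG (PY K) M ⊔ ⊥), ← Subgroup.relIndex_bot_left,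
      ← Subgroup.relIndex_bot_left, Subgroup.relIndex_mul_relIndex _ _ _ bot_le inf_le_right]
  have h8 := card_PZ_le h
  have h9 : Nat.card (comG (PY K) M ⊔ ⊥ : Subgroup (PG K)) = p ^ n :=
    le_antisymm (hCcard.trans h8) (by
      rw [← h7]
      calc p ^ n ≤ D.relIndex (comG (PY K) M ⊔ ⊥) := h3.trans (h1.trans h6)
        _ ≤ _ := Nat.le_mul_of_pos_left _ Nat.card_pos)
  have h10 : (comG (PY K) M ⊔ ⊥ : Subgroup (PG K)) = PZ K :=
    Subgroup.eq_of_le_of_card_ge hCZ (by rw [h9]; exact h8)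
  have h11 : D ⊓ PZ K = ⊥ := by
    rw [← h10]
    apply Subgroup.eq_bot_of_card_le
    rw [h9] at h7
    have h12 : p ^ n ≤ D.relIndex (comG (PY K) M ⊔ ⊥) := h3.trans (h1.trans h6)
    by_contra hlt
    push Not at hlt
    have h13 : 2 * p ^ n ≤ Nat.card (D ⊓ (comG (PY K) M ⊔ ⊥) : Subgroup (PG K)) *
        D.relIndex (comG (PY K) M ⊔ ⊥) := Nat.mul_le_mul hlt h12
    omega
  have key : ∀ e ∈ E, ∀ f ∈ E, e * f * e⁻¹ * f⁻¹ ∈ PZ K → e * f = f * e := by
    intro e he f hf hef
    have h12 : e * f * e⁻¹ * f⁻¹ ∈ D ⊓ PZ K :=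
      ⟨⟨hZM hef, Subgroup.commutator_mem_commutator he hf⟩, hef⟩
    rw [h11, Subgroup.mem_bot] at h12
    have h13 := mul_inv_eq_one.1 h12
    rw [mul_inv_eq_iff_eq_mul] at h13
    exact h13
  -- the coordinates of the elements of `E`
  obtain ⟨κ, hκ0, hκ⟩ := exists_skew h
  have hEr : ∀ e ∈ E, star e.r * z.r = e.r * star z.r := by
    intro e he
    let y : PG K := { r := 0, a := 0, b := z.r * κ, c := 0, ha := by simp, hc := by simp }
    have hy : y ∈ PY K := ⟨rfl, rfl⟩
    have hyE : y ∈ E := hline y hy (by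
      show z.r * star (z.r * κ) + star z.r * (z.r * κ) = 0
      rw [star_mul', hκ]
      ring)
    have k1 := (comm_PY_iff hy e).1 (key y hyE e he (com_PY hy e))
    have k2 : e.r * star (z.r * κ) + star e.r * (z.r * κ) = 0 := k1
    rw [star_mul', hκ] at k2
    apply mul_right_cancel₀ hκ0
    linear_combination k2
  have hEc : ∀ e ∈ E, z.r * e.c = e.r * z.c := by
    intro e he
    have h12 := congrArg PG.b (hz.2.1 e he)
    simp only [PG.mul_b] at h12
    linear_combination h12
  -- elements of `Q` normalizing `E`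
  have hnorm : ∀ y : PG K, y.c = 0 → (∀ e ∈ E, z.r * star (y.r * e.c) + star z.r * (y.r * e.c) = 0) →
      ∃ e ∈ E, e.r = y.r ∧ e.c = 0 := by
    intro y hy hyc
    have h12 : y ∈ normalizerIn (⊤ : Subgroup (PG K)) E := by
      refine ⟨Subgroup.mem_top y, ?_⟩
      refine Subgroup.mem_normalizer_fintype (fun e he => ?_)
      obtain ⟨k1, k2⟩ := com_b e y
      have k3 : y * e * y⁻¹ = (e * y * e⁻¹ * y⁻¹)⁻¹ * e := by group
      rw [k3]
      refine E.mul_mem (E.inv_mem (hline _ k1 ?_)) he
      rw [k2, hy]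
      have k4 := hyc e he
      rw [mul_zero, zero_sub, star_neg]
      linear_combination -k4
    rw [hN, Subgroup.mem_sup_of_normal_right] at h12
    obtain ⟨e, he, w, hw, rfl⟩ := h12
    obtain ⟨w1, w2⟩ := hw
    have e1 : e.r = (e * w).r := by rw [PG.mul_r, w1, add_zero]
    have e2 : e.c = 0 := by
      have : e.c + w.c = 0 := hy
      rwa [w2, add_zero] at this
    exact ⟨e, he, e1, e2⟩
  have hzc : z.c = 0 := by
    let y : PG K := { r := z.r * κ, a := 0, b := 0, c := 0, ha := by simp, hc := by simp }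
    obtain ⟨e, he, e1, e2⟩ := hnorm y rfl (fun e he => by
      show z.r * star (z.r * κ * e.c) + star z.r * (z.r * κ * e.c) = 0
      rw [star_mul', star_mul', hκ, e.hc]
      ring)
    have k1 := hEc e he
    rw [e2, mul_zero] at k1
    have e3 : e.r = z.r * κ := e1
    rw [e3] at k1
    exact (mul_eq_zero.1 k1.symm).resolve_left (mul_ne_zero hzr hκ0)
  have hEc0 : ∀ e ∈ E, e.c = 0 := by
    intro e he
    have k1 := hEc e he
    rw [hzc, mul_zero] at k1
    exact (mul_eq_zero.1 k1).resolve_left hzr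
  obtain ⟨θ, hθ⟩ := exists_star_ne h
  let y : PG K := { r := z.r * θ, a := 0, b := 0, c := 0, ha := by simp, hc := by simp }
  obtain ⟨e, he, e1, e2⟩ := hnorm y rfl (fun e he => by
    rw [hEc0 e he, mul_zero, star_zero, mul_zero, mul_zero, add_zero])
  have k1 := hEr e he
  have e3 : e.r = z.r * θ := e1
  rw [e3, star_mul'] at k1
  apply hθ
  apply mul_left_cancel₀ (mul_ne_zero hzr hszr)
  linear_combination k1

end main

end Cfsg.Agent.H55.P4
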